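import Groth.Agent.ThickPic.Lift
import Groth.Agent.StratCoh.Main
import Groth.Agent.PiSmooth.Main
import Groth.Agent.QC.IdealMod
import Groth.Agent.ThickSys.Desc
import Groth.Agent.NilAffine.Main
import Groth.Agent.C1Cap.PullGen
import Groth.Agent.CompInt.Cohom
import Groth.Agent.AmpleDesc.Basic
import Groth.Agent.TMul.Pullback
import Groth.Agent.FreeCurve.NegPow
import Groth.Agent.ModDesc.Iso
import Groth.Agent.ZCl.Basic

/-!
Lifting along nilimmersions with kernel supported on an affine closed subset.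
-/

set_option autoImplicit false
set_option backward.isDefEq.respectTransparency false
set_option linter.style.haveILetI false

universe u

open CategoryTheory CategoryTheory.Limits AlgebraicGeometry TopologicalSpace Opposite
open Groth.Agent.QC (res resO res_res res_self res_smul app_res)

noncomputable section

namespace Groth.Agent.NilLiftAff

variable {X Y Z : Scheme.{u}}

/-- A neighbourhood of an open whose new points form a dense affine piece of the closed complement. -/
theorem exists_nbhd [IsNoetherian X] (W : X.Opens) :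
    ∃ V : X.Opens, W ≤ V ∧ (W : Set X)ᶜ ⊆ closure ((V : Set X) ∩ (W : Set X)ᶜ) ∧
      ∃ (T : Scheme.{u}) (g : T ⟶ (V : Scheme.{u})), IsClosedImmersion g ∧ IsAffine T ∧
        Set.range (g ≫ V.ι).base = (V : Set X) ∩ (W : Set X)ᶜ := by
  let C : Closeds X := ⟨(W : Set X)ᶜ, W.isOpen.isClosed_compl⟩
  let I := Scheme.IdealSheafData.vanishingIdeal C
  let j := I.subschemeι
  have hr : Set.range j.base = (C : Set X) := StratCoh.range_red C
  haveI : NoetherianSpace I.subscheme := j.isClosedEmbedding.isInducing.noetherianSpace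
  obtain ⟨T₀, hT₀, hdense⟩ := PiSmooth.exists_dense_isAffineOpen I.subscheme
  obtain ⟨O, hO, hOe⟩ := j.isEmbedding.isInducing.isOpen_iff.1 T₀.isOpen
  let V : X.Opens := W ⊔ ⟨O, hO⟩
  have hpre : j ⁻¹ᵁ V = T₀ := by
    refine Opens.ext (Set.ext fun t => ?_)
    constructor
    · rintro (h | h)
      · exact absurd h (hr.le ⟨t, rfl⟩)
      · exact hOe.le h
    · exact fun h => Or.inr (hOe.ge h)
  refine ⟨V, le_sup_left, fun x hx => ?_, _, j ∣_ V, inferInstance, ?_, ?_⟩
  · obtain ⟨t, rfl⟩ := hr.ge hx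
    refine map_mem_closure j.continuous (hdense t) fun s hs => ⟨?_, hr.le ⟨s, rfl⟩⟩
    exact hpre.ge hs
  · rw [hpre]
    exact hT₀
  · refine Set.ext fun x => ⟨?_, fun hx => ?_⟩
    · rintro ⟨t, rfl⟩
      rw [morphismRestrict_ι]
      exact ⟨(show t.1 ∈ j ⁻¹ᵁ V from t.2), hr.le ⟨_, rfl⟩⟩
    · obtain ⟨t, rfl⟩ := hr.ge hx.2
      refine ⟨(⟨t, hx.1⟩ : (j ⁻¹ᵁ V : I.subscheme.Opens)), ?_⟩
      rw [morphismRestrict_ι]
      rfl

/-- A module all of whose sections near a point are zero on small affines vanishes at the point. -/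
theorem notMem_support {K : X.Modules} (x : X) (O : X.Opens) (hx : x ∈ O)
    (h : ∀ U : X.Opens, IsAffineOpen U → U ≤ O → ∀ s : Γ(K, U), s = 0) : x ∉ CohB1.support K := by
  intro hne
  refine hne ⟨fun a b => ?_⟩
  have hz : ∀ a : K.presheaf.stalk x, a = 0 := fun a => by
    obtain ⟨W, hW, s, rfl⟩ := TopCat.Presheaf.exists_germ_eq K.presheaf a
    obtain ⟨U, hU, hxU, hUW⟩ := exists_isAffineOpen_mem_and_subset (X := X) (U := W ⊓ O) ⟨hW, hx⟩
    have e := K.presheaf.germ_res_apply (homOfLE (hUW.trans inf_le_left : U ≤ W)) x hxU s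
    refine e.symm.trans ?_
    refine (congrArg _ (h U hU (hUW.trans inf_le_right) _)).trans (map_zero _)
  rw [hz a, hz b]

/-- Higher cohomology of a quasi-coherent module supported on an affine closed subscheme vanishes. -/
theorem subsingleton_hh [IsNoetherian Z] {T : Scheme.{u}} [IsAffine T] (g : T ⟶ Z) [IsClosedImmersion g]
    {K : Z.Modules} (hK : Coh.IsQCoh K) (h : CohB1.support K ⊆ Set.range g) (p : ℕ) :
    Subsingleton (Coh.HH Z K (p + 1)) := by
  haveI : QuasiSeparatedSpace Z := ⟨fun _ _ _ _ _ _ => NoetherianSpace.isCompact _⟩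
  exact StratCoh.hh_of_hu (StratCoh.hu_vanish_closed g (NoetherianSpace.isCompact _) K hK h ⊤
    (isAffineOpen_top _) p)

/-- The complement of a closed subscheme. -/
def off {T : Scheme.{u}} (g : T ⟶ Z) [IsClosedImmersion g] : Z.Opens :=
  ⟨(Set.range g)ᶜ, g.isClosedEmbedding.isClosed_range.isOpen_compl⟩

theorem isIso_app_of_le (f : Y ⟶ Z) (O : Z.Opens) [IsIso (f ∣_ O)] {U : Z.Opens} (h : U ≤ O) : IsIso (f.app U) := by
  have h2 : IsIso ((f ∣_ O).app (O.ι ⁻¹ᵁ U)) := inferInstance
  rw [morphismRestrict_app] at h2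
  haveI := h2
  have h3 : IsIso (f.app (O.ι ''ᵁ (O.ι ⁻¹ᵁ U))) := IsIso.of_isIso_comp_right _ (Y.presheaf.map
    (eqToHom (image_morphismRestrict_preimage f O (O.ι ⁻¹ᵁ U))).op)
  rwa [Scheme.Hom.image_preimage_eq_opensRange_inf, Scheme.Opens.opensRange_ι, inf_eq_right.mpr h] at h3

theorem ker_ideal_eq_bot (f : Y ⟶ Z) [QuasiCompact f] {T : Scheme.{u}} (g : T ⟶ Z) [IsClosedImmersion g]
    [IsIso (f ∣_ off g)] (U : Z.affineOpens) (h : U.1 ≤ off g) : f.ker.ideal U = ⊥ := by
  rw [f.ker_apply]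
  haveI := isIso_app_of_le f (off g) h
  exact (RingHom.injective_iff_ker_eq_bot _).1 (ConcreteCategory.bijective_of_isIso (f.app U.1)).1

theorem subsingleton_hh_idealMod [IsNoetherian Z] {T : Scheme.{u}} [IsAffine T] (g : T ⟶ Z) [IsClosedImmersion g]
    (I : Z.IdealSheafData) (h : ∀ U : Z.affineOpens, U.1 ≤ off g → I.ideal U = ⊥) (p : ℕ) :
    Subsingleton (Coh.HH Z (ClSub.idealMod I) (p + 1)) := by
  refine subsingleton_hh g (QC.isQCoh_idealMod I) (fun x hx => ?_) p
  by_contra hxT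
  refine notMem_support (K := ClSub.idealMod I) x ⟨(Set.range g)ᶜ, g.isClosedEmbedding.isClosed_range.isOpen_compl⟩
    hxT (fun U hU hUT s => ?_) hx
  haveI : Mono (ClSub.idealModι I) := by unfold ClSub.idealModι; infer_instance
  refine QC.app_injective_of_mono (ClSub.idealModι I) U ?_
  have h1 := (QC.mem_range_idealModι_affine I ⟨U, hU⟩ ((ClSub.idealModι I).app U s)).1 ⟨s, rfl⟩
  rw [h ⟨U, hU⟩ hUT, Ideal.mem_bot] at h1
  exact h1.trans (map_zero _).symm

/-- The kernel of a surjective closed immersion into a Noetherian scheme is nilpotent. -/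
theorem exists_pow_ker_eq_bot [IsNoetherian Z] (f : Y ⟶ Z) [IsClosedImmersion f] [Surjective f] :
    ∃ k : ℕ, f.ker ^ (2 ^ k) = ⊥ := by
  obtain ⟨κ, hκ, U, hU, -, hcov⟩ := QC.exists_finite_affine_cover (X := Z) (W := ⊤) (by simpa using isCompact_univ)
  haveI := hκ
  choose n hn using fun b => ThickSys.isNilpotent_ker_app f ⟨U b, hU b⟩
  let k := Finset.univ.sup n
  refine ⟨k, Scheme.IdealSheafData.ext_of_iSup_eq_top (fun b => (⟨U b, hU b⟩ : Z.affineOpens))
    (top_le_iff.1 fun x hx => by obtain ⟨b, hb⟩ := hcov x hx; exact Opens.mem_iSup.2 ⟨b, hb⟩) fun b => ?_⟩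
  rw [Scheme.IdealSheafData.ideal_pow, Scheme.IdealSheafData.ideal_bot]
  exact pow_eq_zero_of_le ((Finset.le_sup (Finset.mem_univ b)).trans (Nat.lt_two_pow_self).le) (hn b)

/-- One step: invertible classes lift along a nilimmersion whose kernel lives on an affine closed subset. -/
theorem exists_lift_invertible (k : ℕ) : ∀ {Y Z T : Scheme.{u}} [IsNoetherian Z] [IsAffine T] (g : T ⟶ Z)
    [IsClosedImmersion g] (f : Y ⟶ Z) [IsClosedImmersion f], f.ker ^ (2 ^ k) = ⊥ → IsIso (f ∣_ off g) →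
    ∀ c : PicF.Cl Y, PicF.IsInvertibleCl c → ∃ d : PicF.Cl Z, PicF.IsInvertibleCl d ∧ PicF.pullCl f d = c := by
  induction k with
  | zero =>
    intro Y Z T _ _ g _ f _ hk _ c hc
    rw [pow_zero, pow_one] at hk
    haveI : IsIso f := IsClosedImmersion.isIso_iff_ker_eq_bot.2 hk
    obtain ⟨L, rfl, hL⟩ := hc
    refine ⟨PicF.cl ((Scheme.Modules.pullback (inv f)).obj L), ⟨_, rfl, PicLoc.isInvertible_pullback _ hL⟩,
      Quot.sound ⟨(Scheme.Modules.pullbackComp f (inv f)).app L ≪≫
        (Scheme.Modules.pullbackCongr (IsIso.hom_inv_id f)).app L ≪≫ (Scheme.Modules.pullbackId Y).app L⟩⟩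
  | succ k ih =>
    intro Y Z T _ _ g _ f _ hk hoff c hc
    let I := f.ker ^ (2 ^ k)
    let i := I.subschemeι
    have hIle : I ≤ f.ker := fun U => by
      rw [Scheme.IdealSheafData.ideal_pow]
      exact Ideal.pow_le_self (Nat.two_pow_pos k).ne'
    have hI2 : I * I = ⊥ := by rw [← pow_add, ← two_mul, ← pow_succ']; exact hk
    let f' : Y ⟶ I.subscheme := IsClosedImmersion.lift i f (by rw [Scheme.IdealSheafData.ker_subschemeι]; exact hIle)
    have hf' : f' ≫ i = f := IsClosedImmersion.lift_fac _ _ _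
    haveI : IsClosedImmersion (f' ≫ i) := by rw [hf']; infer_instance
    haveI : IsClosedImmersion f' := IsClosedImmersion.of_comp f' i
    have hker : ∀ U : Z.affineOpens, f'.ker.ideal ⟨i ⁻¹ᵁ U.1, U.2.preimage i⟩ =
        (f.ker.ideal U).map (i.app U.1).hom := by
      intro U
      have hU : Function.Surjective (i.app U.1) := i.app_surjective U.1 U.2
      rw [show f.ker = (f' ≫ i).ker by rw [hf'], (f' ≫ i).ker_apply]
      refine (f'.ker_apply ⟨i ⁻¹ᵁ U.1, U.2.preimage i⟩).trans ?_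
      rw [Scheme.Hom.comp_app, CommRingCat.hom_comp, ← RingHom.comap_ker, Ideal.map_comap_of_surjective _ hU]
    have hT' : IsAffine (pullback i g) := by
      haveI : IsAffineHom (pullback.snd i g) := inferInstance
      exact isAffine_of_isAffineHom (pullback.snd i g)
    have hcov : ⨆ U : Z.affineOpens, i ⁻¹ᵁ U.1 = ⊤ := by
      rw [← Scheme.Hom.preimage_iSup, iSup_affineOpens_eq_top, Scheme.Hom.preimage_top]
    haveI : IsNoetherian I.subscheme :=
      { toIsLocallyNoetherian := LocallyOfFiniteType.isLocallyNoetherian i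
        toCompactSpace := QuasiCompact.compactSpace_of_compactSpace i }
    have hoff' : IsIso (f' ∣_ off (pullback.fst i g)) := by
      haveI := hoff
      have hO : off (pullback.fst i g) = i ⁻¹ᵁ off g :=
        Opens.ext (show (Set.range (pullback.fst i g))ᶜ = i ⁻¹' (Set.range g)ᶜ by
          rw [Scheme.Pullback.range_fst, Set.preimage_compl])
      rw [hO]
      haveI : IsIso ((f' ∣_ (i ⁻¹ᵁ off g)) ≫ (i ∣_ off g)) := by
        have h : IsIso ((f' ≫ i) ∣_ off g) := by rw [hf']; infer_instance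
        rw [morphismRestrict_comp] at h
        exact h
      haveI : IsSplitEpi (i ∣_ off g) :=
        IsSplitEpi.mk' ⟨inv ((f' ∣_ (i ⁻¹ᵁ off g)) ≫ (i ∣_ off g)) ≫ (f' ∣_ (i ⁻¹ᵁ off g)),
          by rw [Category.assoc, IsIso.inv_hom_id]⟩
      haveI : IsIso (i ∣_ off g) := isIso_of_mono_of_isSplitEpi _
      exact IsIso.of_isIso_comp_right (f' ∣_ (i ⁻¹ᵁ off g)) (i ∣_ off g)
    obtain ⟨d, hd, hdc⟩ := ih (pullback.fst i g) f' (Scheme.IdealSheafData.ext_of_iSup_eq_top
      (fun U : Z.affineOpens => (⟨i ⁻¹ᵁ U.1, U.2.preimage i⟩ : I.subscheme.affineOpens)) hcov fun U => by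
        rw [Scheme.IdealSheafData.ideal_pow, Scheme.IdealSheafData.ideal_bot]
        change f'.ker.ideal _ ^ _ = ⊥
        rw [hker, ← Ideal.map_pow, eq_bot_iff, Ideal.map_le_iff_le_comap]
        refine le_trans (le_of_eq ?_) (le_of_eq (RingHom.ker_eq_comap_bot _))
        rw [Scheme.IdealSheafData.ker_subschemeι_app, Scheme.IdealSheafData.ideal_pow]
        rfl) hoff' c hc
    have hle : ∀ U : Z.affineOpens, U.1 ≤ off g → I.ideal U = ⊥ := fun U hU' =>
        eq_bot_iff.2 ((hIle U).trans (haveI := hoff; ker_ideal_eq_bot f g U hU').le)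
    obtain ⟨d', hd', hdd⟩ := ThickPic.exists_lift hI2 (subsingleton_hh_idealMod g I hle 1) d hd
    refine ⟨d', hd', ?_⟩
    obtain ⟨L, rfl, -⟩ := hd'
    rw [← hdc, ← hdd]
    exact Quot.sound ⟨(Scheme.Modules.pullbackCongr hf'.symm).app L ≪≫
      ((Scheme.Modules.pullbackComp f' i).app L).symm⟩

open ProjMor in
/-- Sections of an invertible module lift along a nilimmersion which is an isomorphism off an affine closed
subscheme. -/
theorem exists_lift_section [IsNoetherian Z] {T : Scheme.{u}} [IsAffine T] (g : T ⟶ Z) [IsClosedImmersion g]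
    (f : Y ⟶ Z) [IsClosedImmersion f] [IsIso (f ∣_ off g)] {N : Z.Modules} (hN : PicF.IsInvertible N)
    (t : Γ((Scheme.Modules.pullback f).obj N, f ⁻¹ᵁ ⊤)) : ∃ m : Γ(N, ⊤), eta f N ⊤ m = t := by
  let η₀ : N ⟶ (Scheme.Modules.pushforward f).obj ((Scheme.Modules.pullback f).obj N) :=
    (Scheme.Modules.pullbackPushforwardAdjunction f).unit.app N
  have hNq : Coh.IsQCoh N := TMul.isQCoh_of_isInvertible hN
  haveI : N.IsQuasicoherent := hNq
  haveI hP : Coh.IsQCoh ((Scheme.Modules.pushforward f).obj ((Scheme.Modules.pullback f).obj N)) := by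
    haveI : ((Scheme.Modules.pullback f).obj N).IsQuasicoherent := QC.isQCoh_pullback f hNq
    exact QC.isQCoh_pushforward f
  have hgen : ∀ x : Z, ∃ U : Z.Opens, IsAffineOpen U ∧ x ∈ U ∧ ∃ e : Γ(N, U), TMul.IsGen e := fun x => by
    obtain ⟨O, e, hx, he⟩ := TMul.exists_isGen hN x
    obtain ⟨U, hU, hxU, hUO⟩ := exists_isAffineOpen_mem_and_subset (X := Z) hx
    exact ⟨U, hU, hxU, res N hUO e, he.res hUO⟩
  choose U hU hxU e he using hgen
  haveI : Epi η₀ := ModDesc.epi_of_affine_cover η₀ U hU (fun x => ⟨x, hxU x⟩) fun x y => by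
    obtain ⟨c, hc⟩ := (C1Cap.isGen_eta f (he x) (f ⁻¹ᵁ U x) le_rfl).2 y
    obtain ⟨b, rfl⟩ := f.app_surjective (U x) (hU x) c
    refine ⟨b • e x, (eta_smul f N b (e x)).trans ?_⟩
    refine Eq.trans ?_ hc
    exact congrArg _ (res_self _ _ _).symm
  let S : ShortComplex Z.Modules := ShortComplex.mk (kernel.ι η₀) η₀ (kernel.condition η₀)
  have hS : S.ShortExact :=
    { exact := S.exact_of_f_is_kernel (kernelIsKernel η₀), mono_f := inferInstance, epi_g := ‹Epi η₀› }
  obtain ⟨m, hm⟩ := CompInt.surjective_app_top hS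
    (subsingleton_hh g (QC.isQCoh_kernel hNq hP η₀) (fun x hx => by
      by_contra hxT
      refine notMem_support (K := kernel η₀) x (off g) hxT (fun W hW hWO s => ?_) hx
      refine QC.app_injective_of_mono (kernel.ι η₀) W ?_
      rw [map_zero]
      refine QC.section_eq_of_locally fun y hy => ?_
      obtain ⟨V, hV, hyV, hVW⟩ := exists_isAffineOpen_mem_and_subset (X := Z) (U := W ⊓ U y) ⟨hy, hxU y⟩
      refine ⟨V, hVW.trans inf_le_left, hyV, ?_⟩
      have hz : eta f N W ((kernel.ι η₀).app W s) = 0 :=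
        (QC.mem_range_kernel_app η₀ W _).1 ⟨s, rfl⟩
      have hV' := hVW.trans inf_le_right
      have he' := (he y).res hV'
      obtain ⟨c, hc⟩ := (he' V le_rfl).2 (res N (hVW.trans inf_le_left) ((kernel.ι η₀).app W s))
      change c • res N le_rfl (res N hV' (e y)) = _ at hc
      rw [res_self] at hc
      have h0 : f.app V c • eta f N V (res N hV' (e y)) = 0 := by
        rw [← eta_smul, hc, ← eta_res, hz, map_zero]
      haveI := isIso_app_of_le f (off g) ((hVW.trans inf_le_left).trans hWO)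
      have hfc : f.app V c = 0 := by
        refine (C1Cap.isGen_eta f he' (f ⁻¹ᵁ V) le_rfl).1 ?_
        change f.app V c • res _ _ _ = (0 : Γ(Y, f ⁻¹ᵁ V)) • _
        rw [res_self, h0, zero_smul]
      have hc0 : c = 0 := (ConcreteCategory.bijective_of_isIso (f.app V)).1 (hfc.trans (map_zero _).symm)
      rw [← hc, hc0, zero_smul, map_zero]) 0) t
  exact ⟨m, hm⟩

end Groth.Agent.NilLiftAff
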